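import Groth.Agent.DRingTwoTerm.QhMap
import Mathlib.Algebra.Homology.DerivedCategory.Linear
import Mathlib.Algebra.Homology.DerivedCategory.TStructure
import Mathlib.Algebra.Homology.DerivedCategory.SingleTriangle
import Mathlib.Algebra.Homology.Double
import Mathlib.Algebra.Homology.SingleHomology

/-!
# Two-term complexes `E⁻¹ ⟶ E⁰` with projective `E⁰`: maps into `N[1]`, cohomology, elementwise criteria
-/

universe u

open CategoryTheory Limits

namespace Groth.Agent.DRingTwoTerm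

attribute [local instance] HasDerivedCategory.standard

set_option linter.style.haveILetI false

variable {R : Type u} [CommRing R]

/-- `N` in degree `-1`. -/
noncomputable abbrev sgl (N : Type u) [AddCommGroup N] [Module R N] : DRing.Cx R :=
  (HomologicalComplex.single (ModuleCat.{u} R) (ComplexShape.up ℤ) (-1)).obj (ModuleCat.of R N)

theorem isZero_sgl (N : Type u) [AddCommGroup N] [Module R N] (i : ℤ) (hi : i ≠ -1) : IsZero ((sgl (R := R) N).X i) :=
  HomologicalComplex.isZero_single_obj_X _ _ _ i hi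

/-- `N[1]` as a complex. -/
noncomputable def shiftIso (N : Type u) [AddCommGroup N] [Module R N] :
    (Dual.inD R N)⟦(1 : ℤ)⟧ ≅ DerivedCategory.Q.obj (sgl N) :=
  ((DerivedCategory.singleFunctors (ModuleCat.{u} R)).shiftIso 1 (-1) 0 (by omega)).app (ModuleCat.of R N) ≪≫
    ((SingleFunctors.evaluation _ _ (-1)).mapIso (DerivedCategory.singleFunctorsPostcompQIso (ModuleCat.{u} R))).app
      (ModuleCat.of R N)

/-- The element `c` annihilates `Ext¹(K, N)` for every `N`. -/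
def Kills (K : Dual.D R) (c : R) : Prop :=
  ∀ (N : Type u) [AddCommGroup N] [Module R N] (ξ : K ⟶ (Dual.inD R N)⟦(1 : ℤ)⟧), c • ξ = 0

theorem kills_of_iso {K K' : Dual.D R} (e : K ≅ K') {c : R} (h : Kills K c) : Kills K' c :=
  fun N _ _ ξ => by rw [← cancel_epi e.hom, Linear.comp_smul, h N, comp_zero]

theorem kills_iff_of_iso {K K' : Dual.D R} (e : K ≅ K') {c : R} : Kills K c ↔ Kills K' c :=
  ⟨kills_of_iso e, kills_of_iso e.symm⟩

theorem subsingleton_iff_kills_one (K : Dual.D R) :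
    (∀ (N : Type u) [AddCommGroup N] [Module R N], Subsingleton (K ⟶ (Dual.inD R N)⟦(1 : ℤ)⟧)) ↔ Kills K 1 :=
  ⟨fun h N _ _ _ => (h N).elim _ _, fun h N _ _ => ⟨fun ξ η => by
    rw [← one_smul R ξ, ← one_smul R η, h N ξ, h N η]⟩⟩

section Maps

variable {M K : DRing.Cx R} (hM : ∀ i : ℤ, 0 < i → IsZero (M.X i)) (hK : ∀ i : ℤ, i ≤ -2 → IsZero (K.X i))

include hM hK in
theorem Q_map_eq_zero_of_null (a : M ⟶ K) (ha : Null a) : DerivedCategory.Q.map a = 0 := by
  rw [← cancel_epi ((DerivedCategory.quotientCompQhIso _).hom.app M),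
    ← DerivedCategory.quotientCompQhIso_hom_naturality, (null_iff hM hK a).2 ha, Functor.map_zero, zero_comp,
    comp_zero]

include hM hK in
theorem Q_map_eq_zero_iff [Module.Projective R (M.X 0)] (a : M ⟶ K) : DerivedCategory.Q.map a = 0 ↔ Null a :=
  ⟨null_of_Q_map_eq_zero hM hK a, Q_map_eq_zero_of_null hM hK a⟩

end Maps

variable {E : DRing.Cx R}

theorem above_of_outside (hE : DRing.VanishesOutside E (-1) 0) : ∀ i : ℤ, 0 < i → IsZero (E.X i) :=
  fun i hi => hE i (Or.inr hi)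

theorem below_of_outside (hE : DRing.VanishesOutside E (-1) 0) : ∀ i : ℤ, i ≤ -2 → IsZero (E.X i) :=
  fun i hi => hE i (Or.inl (by omega))

theorem eq_zero_d_neg_two (hE : DRing.VanishesOutside E (-1) 0) (w : E.X (-2)) : E.d (-2) (-1) w = 0 := by
  rw [eq_zero_of_isZero (below_of_outside hE (-2) le_rfl) w, map_zero]

theorem exists_Q_map_shift_eq (hE : ∀ i : ℤ, 0 < i → IsZero (E.X i)) [Module.Projective R (E.X 0)]
    {N : Type u} [AddCommGroup N] [Module R N] (ξ : DRing.toD E ⟶ (Dual.inD R N)⟦(1 : ℤ)⟧) :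
    ∃ b : E ⟶ sgl N, ξ = DerivedCategory.Q.map b ≫ (shiftIso N).inv := by
  obtain ⟨b, hb⟩ := exists_Q_map_eq hE (fun i hi => isZero_sgl N i (by omega)) (ξ ≫ (shiftIso N).hom)
  exact ⟨b, by rw [hb, Category.assoc, Iso.hom_inv_id, Category.comp_id]⟩

theorem null_sgl_iff {M : DRing.Cx R} {N : Type u} [AddCommGroup N] [Module R N] (a : M ⟶ sgl N) :
    Null a ↔ ∃ h : M.X 0 →ₗ[R] (sgl (R := R) N).X (-1), ∀ x, a.f (-1) x = h (M.d (-1) 0 x) :=
  exists_congr fun h => ⟨fun hh => hh.1, fun hh => ⟨hh, fun x => by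
    rw [eq_zero_of_isZero (isZero_sgl N 0 (by omega)) (a.f 0 x),
      eq_zero_of_isZero (isZero_sgl N 0 (by omega)) ((sgl (R := R) N).d (-1) 0 (h x))]⟩⟩

/-- The universal class in `Hom(E, E⁻¹[1])`. -/
noncomputable def univ (hE : ∀ i : ℤ, i ≤ -2 → IsZero (E.X i)) : E ⟶ sgl (E.X (-1)) :=
  HomologicalComplex.mkHomToSingle (𝟙 _) fun i hi => (hE i (by simp at hi; omega)).eq_of_src _ _

theorem univ_f (hE : ∀ i : ℤ, i ≤ -2 → IsZero (E.X i)) (x : E.X (-1)) :
    (HomologicalComplex.singleObjXSelf (ComplexShape.up ℤ) (-1) (ModuleCat.of R (E.X (-1)))).hom ((univ hE).f (-1) x) = x := by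
  rw [← ModuleCat.comp_apply]
  simp [univ]

theorem kills_iff (hE : DRing.VanishesOutside E (-1) 0) [Module.Projective R (E.X 0)] (c : R) :
    Kills (DRing.toD E) c ↔ ∃ h : E.X 0 →ₗ[R] E.X (-1), ∀ x, h (E.d (-1) 0 x) = c • x := by
  constructor
  · intro H
    let ι := HomologicalComplex.singleObjXSelf (ComplexShape.up ℤ) (-1) (ModuleCat.of R (E.X (-1)))
    have h := H (E.X (-1)) (DerivedCategory.Q.map (univ (below_of_outside hE)) ≫ (shiftIso _).inv)
    rw [← Linear.smul_comp, ← Functor.map_smul] at h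
    have h' : DerivedCategory.Q.map (c • univ (below_of_outside hE)) = 0 := by
      rw [← cancel_mono (shiftIso _).inv, h, zero_comp]
    obtain ⟨k, hk⟩ := (null_sgl_iff _).1 (null_of_Q_map_eq_zero (above_of_outside hE)
      (fun i hi => isZero_sgl _ i (by omega)) _ h')
    refine ⟨ι.hom.hom ∘ₗ k, fun x => ?_⟩
    rw [LinearMap.comp_apply, ← hk]
    show ι.hom (c • (univ (below_of_outside hE)).f (-1) x) = c • x
    rw [map_smul, univ_f]
  · rintro ⟨h, hh⟩ N _ _ ξ
    obtain ⟨b, rfl⟩ := exists_Q_map_shift_eq (above_of_outside hE) ξ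
    rw [← Linear.smul_comp, ← Functor.map_smul, Q_map_eq_zero_of_null (above_of_outside hE)
      (fun i hi => isZero_sgl N i (by omega)) _ ((null_sgl_iff _).2 ⟨(b.f (-1)).hom ∘ₗ h, fun x => ?_⟩), zero_comp]
    show c • b.f (-1) x = b.f (-1) (h (E.d (-1) 0 x))
    rw [hh, map_smul]

/-! ### Cohomology -/

/-- Cohomology of a complex, through a short complex. -/
noncomputable def hdEquiv (E : DRing.Cx R) (i j k : ℤ) (hi : i + 1 = j) (hk : j + 1 = k) :
    Dual.HD R (DRing.toD E) j ≃ₗ[R] (E.sc' i j k).homology :=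
  ((DerivedCategory.homologyFunctorFactors (ModuleCat.{u} R) j).app E ≪≫
    E.homologyIsoSc' i j k (by simp; omega) (by simp; omega)).toLinearEquiv

/-- `H⁰` of a two-term complex as a cokernel. -/
theorem exists_h0Equiv (hE : ∀ i : ℤ, 0 < i → IsZero (E.X i)) :
    Nonempty ((E.X 0 ⧸ LinearMap.range (E.d (-1) 0).hom) ≃ₗ[R] Dual.HD R (DRing.toD E) 0) := by
  let S := E.sc' (-1) 0 1
  have hg : ∀ x : S.X₂, S.g x = 0 := fun x => eq_zero_of_isZero (hE 1 one_pos) _
  let p : S.X₂ →ₗ[R] S.homology :=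
    S.homologyπ.hom ∘ₗ S.moduleCatCyclesIso.inv.hom ∘ₗ LinearMap.id.codRestrict (LinearMap.ker S.g.hom) hg
  have hp : ∀ x, p x = FlatComplex.cls S x (hg x) := fun _ => rfl
  have hs : Function.Surjective p := fun h => by
    obtain ⟨x, hx, rfl⟩ := FlatComplex.cls_surjective h
    exact ⟨x, hp x⟩
  have hk : LinearMap.ker p = LinearMap.range S.f.hom := by
    ext x
    rw [LinearMap.mem_ker, ← map_zero p, hp, hp, FlatComplex.cls_eq_cls_iff, LinearMap.mem_range]
    exact ⟨fun ⟨w, hw⟩ => ⟨w, ((sub_zero x).symm.trans hw).symm⟩, fun ⟨w, hw⟩ => ⟨w, (sub_zero x).trans hw.symm⟩⟩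
  exact ⟨(Submodule.quotEquivOfEq _ _ hk.symm).trans ((LinearMap.quotKerEquivOfSurjective p hs).trans
    (hdEquiv E (-1) 0 1 rfl rfl).symm)⟩

/-- `H⁻¹` of a two-term complex as a kernel. -/
theorem exists_h1Equiv (hE : ∀ i : ℤ, i ≤ -2 → IsZero (E.X i)) :
    Nonempty (LinearMap.ker (E.d (-1) 0).hom ≃ₗ[R] Dual.HD R (DRing.toD E) (-1)) := by
  let S := E.sc' (-2) (-1) 0
  let p : LinearMap.ker (E.d (-1) 0).hom →ₗ[R] S.homology := S.homologyπ.hom ∘ₗ S.moduleCatCyclesIso.inv.hom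
  have hp : ∀ x, p x = FlatComplex.cls S x.1 x.2 := fun _ => rfl
  refine ⟨(LinearEquiv.ofBijective p ⟨fun x y hxy => ?_, fun h => ?_⟩).trans (hdEquiv E (-2) (-1) 0 rfl rfl).symm⟩
  · rw [hp, hp, FlatComplex.cls_eq_cls_iff] at hxy
    obtain ⟨w, hw⟩ := hxy
    rw [show w = 0 from eq_zero_of_isZero (hE (-2) le_rfl) w, map_zero, sub_eq_zero] at hw
    exact Subtype.ext hw
  · obtain ⟨x, hx, rfl⟩ := FlatComplex.cls_surjective h
    exact ⟨⟨x, hx⟩, hp _⟩

/-! ### Maps of two-term complexes -/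

/-- The comparison of the two homology functors, at one object. -/
noncomputable def eI (E : DRing.Cx R) (i : ℤ) :
    (DerivedCategory.homologyFunctor (ModuleCat.{u} R) i).obj (DerivedCategory.Q.obj E) ≅ E.homology i :=
  (DerivedCategory.homologyFunctorFactors (ModuleCat.{u} R) i).app E

theorem homologyFunctor_map_Q {E E' : DRing.Cx R} (a : E ⟶ E') (i : ℤ) :
    HomologicalComplex.homologyMap a i = (eI E i).inv ≫
      (DerivedCategory.homologyFunctor (ModuleCat.{u} R) i).map (DerivedCategory.Q.map a) ≫ (eI E' i).hom := by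
  rw [Iso.eq_inv_comp]
  exact ((DerivedCategory.homologyFunctorFactors (ModuleCat.{u} R) i).hom.naturality a).symm

theorem sc'_map_homology {E E' : DRing.Cx R} (a : E ⟶ E') (i j k : ℤ) (hi : i + 1 = j) (hk : j + 1 = k) :
    ShortComplex.homologyMap ((HomologicalComplex.shortComplexFunctor' _ _ i j k).map a) =
      (E.homologyIsoSc' i j k (by simp; omega) (by simp; omega)).inv ≫ HomologicalComplex.homologyMap a j ≫
        (E'.homologyIsoSc' i j k (by simp; omega) (by simp; omega)).hom := by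
  rw [Iso.eq_inv_comp]
  let N := HomologicalComplex.natIsoSc' (ModuleCat.{u} R) (ComplexShape.up ℤ) i j k (by simp; omega) (by simp; omega)
  have e := N.hom.naturality a
  exact (ShortComplex.homologyMap_comp (N.hom.app E) _).symm.trans
    ((congrArg (fun t => ShortComplex.homologyMap t) e).symm.trans
      (ShortComplex.homologyMap_comp ((HomologicalComplex.shortComplexFunctor _ _ j).map a) (N.hom.app E')))

theorem bijective_app {A B : ModuleCat.{u} R} (e : A ⟶ B) [IsIso e] : Function.Bijective e :=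
  (ConcreteCategory.isIso_iff_bijective e).1 inferInstance

theorem inj_of_mono {E E' : DRing.Cx R} (a : E ⟶ E') (i j k : ℤ) (hi : i + 1 = j) (hk : j + 1 = k)
    [hm : Mono ((DerivedCategory.homologyFunctor (ModuleCat.{u} R) j).map (DerivedCategory.Q.map a))]
    (x : E.X j) (hx : E.d j k x = 0) (h : ∃ w, a.f j x = E'.d i j w) : ∃ w, x = E.d i j w := by
  refine (FlatComplex.homologyMap_injective_iff ((HomologicalComplex.shortComplexFunctor' _ _ i j k).map a)).1
    ?_ x hx h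
  rw [sc'_map_homology a i j k hi hk, homologyFunctor_map_Q]
  intro y y' hyy'
  simp only [ModuleCat.comp_apply] at hyy'
  exact (bijective_app _).1 ((bijective_app _).1 ((ModuleCat.mono_iff_injective _).1 hm
    ((bijective_app _).1 ((bijective_app _).1 hyy'))))

theorem surj_of_epi {E E' : DRing.Cx R} (a : E ⟶ E') (i j k : ℤ) (hi : i + 1 = j) (hk : j + 1 = k)
    [hm : Epi ((DerivedCategory.homologyFunctor (ModuleCat.{u} R) j).map (DerivedCategory.Q.map a))]
    (z : E'.X j) (hz : E'.d j k z = 0) : ∃ x, E.d j k x = 0 ∧ ∃ w, a.f j x - z = E'.d i j w := by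
  refine (FlatComplex.homologyMap_surjective_iff ((HomologicalComplex.shortComplexFunctor' _ _ i j k).map a)).1
    ?_ z hz
  rw [sc'_map_homology a i j k hi hk, homologyFunctor_map_Q]
  simp only [ModuleCat.hom_comp, LinearMap.coe_comp]
  exact ((bijective_app _).2.comp ((bijective_app _).2.comp (((ModuleCat.epi_iff_surjective _).1 hm).comp
    (bijective_app _).2))).comp (bijective_app _).2

theorem cls_zero (S : ShortComplex (ModuleCat.{u} R)) (h : S.g 0 = 0) : FlatComplex.cls S 0 h = 0 :=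
  (congrArg S.homologyπ (map_zero S.moduleCatCyclesIso.inv.hom)).trans (map_zero S.homologyπ.hom)

theorem boundary_of_eq_zero {E E' : DRing.Cx R} (a : E ⟶ E') (i j k : ℤ) (hi : i + 1 = j) (hk : j + 1 = k)
    (h : (DerivedCategory.homologyFunctor (ModuleCat.{u} R) j).map (DerivedCategory.Q.map a) = 0)
    (x : E.X j) (hx : E.d j k x = 0) : ∃ w, a.f j x = E'.d i j w := by
  let φ := (HomologicalComplex.shortComplexFunctor' (ModuleCat.{u} R) (ComplexShape.up ℤ) i j k).map a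
  obtain ⟨hx', e⟩ := FlatComplex.homologyMap_cls φ x hx
  have h0 : FlatComplex.cls _ (φ.τ₂ x) hx' = FlatComplex.cls _ 0 (map_zero _) := by
    rw [← e, cls_zero, sc'_map_homology a i j k hi hk, homologyFunctor_map_Q]
    simp [h]
  obtain ⟨w, hw⟩ := (FlatComplex.cls_eq_cls_iff _ _ hx' (map_zero _)).1 h0
  exact ⟨w, (sub_zero (φ.τ₂ x)).symm.trans hw⟩

theorem exists_factor {A B C : Type u} [AddCommGroup A] [Module R A] [AddCommGroup B] [Module R B] [AddCommGroup C]
    [Module R C] (p : A →ₗ[R] B) (hp : Function.Surjective p) (q : A →ₗ[R] C) (h : ∀ x, p x = 0 → q x = 0) :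
    ∃ r : B →ₗ[R] C, ∀ x, r (p x) = q x :=
  ⟨(LinearMap.ker p).liftQ q (fun x hx => h x hx) ∘ₗ (LinearMap.quotKerEquivOfSurjective p hp).symm.toLinearMap,
    fun x => by
      rw [LinearMap.comp_apply, LinearEquiv.coe_coe,
        show (LinearMap.quotKerEquivOfSurjective p hp).symm (p x) = Submodule.Quotient.mk x by
          rw [LinearEquiv.symm_apply_eq]; rfl]
      rfl⟩

/-- Transport of a factorisation of multiplication by `c` along a map with bijective `H⁰` and surjective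
`H⁻¹`. -/
theorem exists_transport {E E' : DRing.Cx R} (hE : DRing.VanishesOutside E (-1) 0)
    (hE' : DRing.VanishesOutside E' (-1) 0) (a : E ⟶ E')
    [IsIso ((DerivedCategory.homologyFunctor (ModuleCat.{u} R) 0).map (DerivedCategory.Q.map a))]
    [Epi ((DerivedCategory.homologyFunctor (ModuleCat.{u} R) (-1)).map (DerivedCategory.Q.map a))]
    (c : R) (h : E.X 0 →ₗ[R] E.X (-1)) (hh : ∀ x, h (E.d (-1) 0 x) = c • x) :
    ∃ h' : E'.X 0 →ₗ[R] E'.X (-1), (∀ x, h' (E'.d (-1) 0 x) = c • x) ∧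
      ((∀ x, E.d (-1) 0 (h x) = c • x) → ∀ x, E'.d (-1) 0 (h' x) = c • x) := by
  let p : (E.X 0 × E'.X (-1)) →ₗ[R] E'.X 0 := (a.f 0).hom.coprod (E'.d (-1) 0).hom
  let q : (E.X 0 × E'.X (-1)) →ₗ[R] E'.X (-1) := ((a.f (-1)).hom ∘ₗ h).coprod (c • LinearMap.id)
  have hp : Function.Surjective p := fun z => by
    obtain ⟨x, -, w, hw⟩ := surj_of_epi a (-1) 0 1 rfl rfl z (eq_zero_of_isZero (above_of_outside hE' 1 one_pos) _)
    exact ⟨(x, -w), by
      show a.f 0 x + E'.d (-1) 0 (-w) = z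
      rw [map_neg, ← hw]; abel⟩
  have hpq : ∀ y, p y = 0 → q y = 0 := fun y hy => by
    obtain ⟨x, v⟩ := y
    replace hy : a.f 0 x + E'.d (-1) 0 v = 0 := hy
    obtain ⟨w, rfl⟩ := inj_of_mono a (-1) 0 1 rfl rfl x (eq_zero_of_isZero (above_of_outside hE 1 one_pos) _)
      ⟨-v, by rw [map_neg]; exact eq_neg_of_add_eq_zero_left hy⟩
    obtain ⟨z, hz, m, hm⟩ := surj_of_epi a (-2) (-1) 0 rfl rfl (v + a.f (-1) w) (by
      rw [map_add, comm_apply, add_comm]; exact hy)
    rw [eq_zero_d_neg_two hE', sub_eq_zero] at hm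
    show a.f (-1) (h (E.d (-1) 0 w)) + c • v = 0
    rw [hh, map_smul, ← smul_add, add_comm, ← hm, ← map_smul, ← hh, hz, map_zero, map_zero]
  obtain ⟨h', hh'⟩ := exists_factor p hp q hpq
  refine ⟨h', fun v => ?_, fun hd x => ?_⟩
  · have := hh' (0, v)
    simpa [p, q] using this
  · obtain ⟨⟨x, v⟩, rfl⟩ := hp x
    rw [hh']
    show E'.d (-1) 0 (a.f (-1) (h x) + c • v) = c • (a.f 0 x + E'.d (-1) 0 v)
    rw [map_add, comm_apply, hd, map_smul, map_smul, smul_add]

/-! ### Changing to a representative -/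

theorem mem_outside_of_strict (L : DRing.Cx R) [CochainComplex.IsStrictlyGE L (-1)]
    [CochainComplex.IsStrictlyLE L 0] : DRing.VanishesOutside L (-1) 0 := fun i hi => by
  rcases hi with hi | hi
  · exact CochainComplex.isZero_of_isStrictlyGE L (-1) i hi
  · exact CochainComplex.isZero_of_isStrictlyLE L 0 i hi

theorem exists_rep (K : Dual.D R) (hK : ∀ i : ℤ, i ≠ -1 → i ≠ 0 → Subsingleton (Dual.HD R K i)) :
    ∃ L : DRing.Cx R, DRing.VanishesOutside L (-1) 0 ∧ Nonempty (DRing.toD L ≅ K) := by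
  haveI : K.IsGE (-1) := by
    rw [DerivedCategory.isGE_iff]
    intro i hi
    haveI := hK i (by omega) (by omega)
    exact ModuleCat.isZero_of_subsingleton _
  haveI : K.IsLE 0 := by
    rw [DerivedCategory.isLE_iff]
    intro i hi
    haveI := hK i (by omega) (by omega)
    exact ModuleCat.isZero_of_subsingleton _
  obtain ⟨L, _, _, ⟨e⟩⟩ := DerivedCategory.exists_iso_Q_obj_of_isGE_of_isLE K (-1) 0
  exact ⟨L, mem_outside_of_strict L, ⟨e.symm⟩⟩

/-- A two-term complex. -/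
noncomputable abbrev tt {M N : ModuleCat.{u} R} (f : M ⟶ N) : DRing.Cx R :=
  HomologicalComplex.double f (show (ComplexShape.up ℤ).Rel (-1) 0 by simp)

/-- Degree `-1` of a two-term complex. -/
noncomputable abbrev ttIso₀ {M N : ModuleCat.{u} R} (f : M ⟶ N) : (tt f).X (-1) ≅ M :=
  HomologicalComplex.doubleXIso₀ f _

/-- Degree `0` of a two-term complex. -/
noncomputable abbrev ttIso₁ {M N : ModuleCat.{u} R} (f : M ⟶ N) : (tt f).X 0 ≅ N :=
  HomologicalComplex.doubleXIso₁ f _ (by omega)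

theorem tt_outside {M N : ModuleCat.{u} R} (f : M ⟶ N) : DRing.VanishesOutside (tt f) (-1) 0 :=
  fun i hi => HomologicalComplex.isZero_double_X f _ i (by omega) (by omega)

theorem tt_d {M N : ModuleCat.{u} R} (f : M ⟶ N) (x : (tt f).X (-1)) :
    (ttIso₁ f).hom ((tt f).d (-1) 0 x) = f ((ttIso₀ f).hom x) := by
  rw [← ModuleCat.comp_apply, ← ModuleCat.comp_apply,
    HomologicalComplex.double_d f _ (by omega : (-1 : ℤ) ≠ 0)]
  simp

/-- A map from a two-term complex. -/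
noncomputable def ttHom {M N : ModuleCat.{u} R} (f : M ⟶ N) {L : DRing.Cx R} (hL : ∀ i : ℤ, 0 < i → IsZero (L.X i))
    (φ₀ : M ⟶ L.X (-1)) (φ₁ : N ⟶ L.X 0) (comm : φ₀ ≫ L.d (-1) 0 = f ≫ φ₁) : tt f ⟶ L :=
  HomologicalComplex.mkHomFromDouble _ (by omega : (-1 : ℤ) ≠ 0) φ₀ φ₁ comm
    fun k hk => (hL k (by simp at hk; omega)).eq_of_tgt _ _

theorem quasiIso_of_elementwise {E E' : DRing.Cx R} (hE : DRing.VanishesOutside E (-1) 0)
    (hE' : DRing.VanishesOutside E' (-1) 0) (a : E ⟶ E')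
    (i1 : ∀ x, E.d (-1) 0 x = 0 → a.f (-1) x = 0 → x = 0)
    (s1 : ∀ z, E'.d (-1) 0 z = 0 → ∃ x, E.d (-1) 0 x = 0 ∧ a.f (-1) x = z)
    (i0 : ∀ x v, a.f 0 x = E'.d (-1) 0 v → ∃ w, x = E.d (-1) 0 w)
    (s0 : ∀ z, ∃ x v, a.f 0 x + E'.d (-1) 0 v = z) : QuasiIso a := by
  refine ⟨fun n => ?_⟩
  by_cases hn : n < -1 ∨ 0 < n
  · rw [quasiIsoAt_iff_exactAt]
    · rw [E'.exactAt_iff' (n - 1) n (n + 1) (by simp) (by simp)]
      exact ShortComplex.exact_of_isZero_X₂ _ (hE' n hn)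
    · rw [E.exactAt_iff' (n - 1) n (n + 1) (by simp) (by simp)]
      exact ShortComplex.exact_of_isZero_X₂ _ (hE n hn)
  rcases (show n = -1 ∨ n = 0 by omega) with rfl | rfl
  · rw [quasiIsoAt_iff' a (-2) (-1) 0 (by simp) (by simp), ShortComplex.quasiIso_iff,
      ConcreteCategory.isIso_iff_bijective]
    refine ⟨(FlatComplex.homologyMap_injective_iff _).2 fun (x : E.X (-1)) hx ⟨w, hw⟩ => ⟨(0 : E.X (-2)), ?_⟩,
      (FlatComplex.homologyMap_surjective_iff _).2 fun (z : E'.X (-1)) hz => ?_⟩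
    · show x = E.d (-2) (-1) 0
      rw [map_zero]
      exact i1 x hx (hw.trans (eq_zero_d_neg_two hE' w))
    · obtain ⟨x, hx, hxz⟩ := s1 z hz
      exact ⟨x, hx, (0 : E'.X (-2)), by
        show a.f (-1) x - z = E'.d (-2) (-1) 0
        rw [map_zero, hxz, sub_self]⟩
  · rw [quasiIsoAt_iff' a (-1) 0 1 (by simp) (by simp), ShortComplex.quasiIso_iff,
      ConcreteCategory.isIso_iff_bijective]
    refine ⟨(FlatComplex.homologyMap_injective_iff _).2 fun x _ ⟨w, hw⟩ => i0 x w hw,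
      (FlatComplex.homologyMap_surjective_iff _).2 fun (z : E'.X 0) _ => ?_⟩
    obtain ⟨x, v, hxv⟩ := s0 z
    exact ⟨x, eq_zero_of_isZero (above_of_outside hE 1 one_pos) _, -v, by
      show a.f 0 x - z = E'.d (-1) 0 (-v)
      rw [map_neg, ← hxv]; abel⟩

/-- Replacing degree `0` by any module whose image generates `H⁰`. -/
theorem exists_iso_of_top {L : DRing.Cx R} (hL : DRing.VanishesOutside L (-1) 0) (F : Type u) [AddCommGroup F]
    [Module R F] (π : F →ₗ[R] L.X 0) (hπ : LinearMap.range π ⊔ LinearMap.range (L.d (-1) 0).hom = ⊤) :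
    ∃ E : DRing.Cx R, DRing.VanishesOutside E (-1) 0 ∧ Nonempty (E.X 0 ≃ₗ[R] F) ∧
      Nonempty (E.X (-1) ≃ₗ[R] LinearMap.ker ((L.d (-1) 0).hom.coprod (-π))) ∧
      Nonempty (DRing.toD E ≅ DRing.toD L) := by
  let P := LinearMap.ker ((L.d (-1) 0).hom.coprod (-π))
  let f : ModuleCat.of R P ⟶ ModuleCat.of R F := ModuleCat.ofHom (LinearMap.snd R _ _ ∘ₗ P.subtype)
  have hP : ∀ y : P, L.d (-1) 0 y.1.1 = π y.1.2 := fun y => by
    have : L.d (-1) 0 y.1.1 + -π y.1.2 = 0 := y.2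
    rwa [← sub_eq_add_neg, sub_eq_zero] at this
  let a : tt f ⟶ L := ttHom f (above_of_outside hL) (ModuleCat.ofHom (LinearMap.fst R _ _ ∘ₗ P.subtype))
    (ModuleCat.ofHom π) (ModuleCat.hom_ext (LinearMap.ext fun y => hP y))
  let ι₀ := ttIso₀ f
  let ι₁ := ttIso₁ f
  have ha₀ : ∀ x : (tt f).X (-1), a.f (-1) x = (ι₀.hom x).1.1 := fun x => by
    simp [a, ttHom, ι₀]
  have ha₁ : ∀ x : (tt f).X 0, a.f 0 x = π (ι₁.hom x) := fun x => by
    simp [a, ttHom, ι₁]
  have hd : ∀ x : (tt f).X (-1), ι₁.hom ((tt f).d (-1) 0 x) = (ι₀.hom x).1.2 := fun x => tt_d f x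
  haveI : QuasiIso a := by
    refine quasiIso_of_elementwise (tt_outside f) hL a (fun x hx hax => ?_) (fun z hz => ?_)
      (fun x v hxv => ?_) (fun z => ?_)
    · refine ι₀.toLinearEquiv.injective ?_
      show ι₀.hom x = ι₀.hom 0
      rw [map_zero]
      refine Subtype.ext (Prod.ext ((ha₀ x).symm.trans hax) ?_)
      rw [← hd, hx, map_zero]
      rfl
    · obtain ⟨x, hx⟩ := ι₀.toLinearEquiv.surjective ⟨(z, 0), by
        show L.d (-1) 0 z + -π 0 = 0
        rw [hz, map_zero, neg_zero, add_zero]⟩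
      replace hx : ι₀.hom x = _ := hx
      refine ⟨x, ι₁.toLinearEquiv.injective ?_, by rw [ha₀, hx]⟩
      show ι₁.hom _ = ι₁.hom 0
      rw [hd, hx]
      exact (map_zero _).symm
    · obtain ⟨w, hw⟩ := ι₀.toLinearEquiv.surjective ⟨(v, ι₁.hom x), by
        show L.d (-1) 0 v + -π (ι₁.hom x) = 0
        rw [← hxv, ha₁]; abel⟩
      replace hw : ι₀.hom w = _ := hw
      refine ⟨w, ι₁.toLinearEquiv.injective ?_⟩
      show ι₁.hom x = ι₁.hom _
      rw [hd, hw]
    · obtain ⟨_, ⟨u, rfl⟩, _, ⟨v, rfl⟩, huv⟩ := Submodule.mem_sup.1 (hπ.ge (Submodule.mem_top (x := z)))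
      obtain ⟨x, rfl⟩ := ι₁.toLinearEquiv.surjective u
      exact ⟨x, v, by rw [ha₁]; exact huv⟩
  exact ⟨tt f, tt_outside f, ⟨ι₁.toLinearEquiv⟩, ⟨ι₀.toLinearEquiv⟩,
    ⟨@asIso _ _ _ _ (DerivedCategory.Q.map a) ((DerivedCategory.isIso_Q_map_iff_quasiIso _ a).2 inferInstance)⟩⟩

theorem exists_rep_free (K : Dual.D R) (hK : ∀ i : ℤ, i ≠ -1 → i ≠ 0 → Subsingleton (Dual.HD R K i)) :
    ∃ E : DRing.Cx R, DRing.VanishesOutside E (-1) 0 ∧ Module.Free R (E.X 0) ∧ Nonempty (DRing.toD E ≅ K) := by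
  obtain ⟨L, hL, ⟨eL⟩⟩ := exists_rep K hK
  obtain ⟨E, hE, ⟨e₁⟩, -, ⟨e⟩⟩ := exists_iso_of_top hL (L.X 0 →₀ R) (Finsupp.linearCombination R (id : L.X 0 → L.X 0))
    (by rw [show LinearMap.range (Finsupp.linearCombination R (id : L.X 0 → L.X 0)) = ⊤ from
      LinearMap.range_eq_top.2 fun x => ⟨Finsupp.single x 1, by simp⟩, top_sup_eq])
  exact ⟨E, hE, Module.Free.of_equiv e₁.symm, ⟨e ≪≫ eL⟩⟩

/-- An object with cohomology only in degree `0`. -/
theorem exists_iso_inD (X : Dual.D R) (hX : ∀ i : ℤ, i ≠ 0 → Subsingleton (Dual.HD R X i)) :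
    Nonempty (X ≅ Dual.inD R (Dual.HD R X 0)) := by
  haveI : X.IsGE 0 := by
    rw [DerivedCategory.isGE_iff]
    intro i hi
    haveI := hX i (by omega)
    exact ModuleCat.isZero_of_subsingleton _
  haveI : X.IsLE 0 := by
    rw [DerivedCategory.isLE_iff]
    intro i hi
    haveI := hX i (by omega)
    exact ModuleCat.isZero_of_subsingleton _
  obtain ⟨Y, ⟨e⟩⟩ := DerivedCategory.exists_iso_singleFunctor_obj_of_isGE_of_isLE X 0
  exact ⟨e ≪≫ (DerivedCategory.singleFunctor (ModuleCat.{u} R) 0).mapIso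
    (((DerivedCategory.singleFunctorCompHomologyFunctorIso (ModuleCat.{u} R) 0).app Y).symm ≪≫
      (DerivedCategory.homologyFunctor (ModuleCat.{u} R) 0).mapIso e.symm)⟩

end Groth.Agent.DRingTwoTerm
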