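import Groth.Agent.DRingTwoTerm.Basic
import Mathlib.Algebra.Category.ModuleCat.Projective
import Mathlib.RingTheory.Noetherian.Basic

/-!
# Two-term complexes: consequences for objects of `D(R)` with cohomology in degrees `-1, 0`
-/

universe u

open CategoryTheory Limits

namespace Groth.Agent.DRingTwoTerm

attribute [local instance] HasDerivedCategory.standard

set_option linter.style.haveILetI false

variable {R : Type u} [CommRing R]

/-- Cohomology only in degrees `-1` and `0`. -/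
def TwoTerm (K : Dual.D R) : Prop := ∀ i : ℤ, i ≠ -1 → i ≠ 0 → Subsingleton (Dual.HD R K i)

/-- An isomorphism on cohomology. -/
noncomputable def hdCongr {K K' : Dual.D R} (e : K ≅ K') (i : ℤ) : Dual.HD R K i ≃ₗ[R] Dual.HD R K' i :=
  ((DerivedCategory.homologyFunctor (ModuleCat.{u} R) i).mapIso e).toLinearEquiv

theorem exists_rep_finite [IsNoetherianRing R] (K : Dual.D R) (hK : TwoTerm K)
    (h1 : Module.Finite R (Dual.HD R K (-1))) (h0 : Module.Finite R (Dual.HD R K 0)) :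
    ∃ E : DRing.Cx R, DRing.VanishesOutside E (-1) 0 ∧ Module.Free R (E.X 0) ∧ Module.Finite R (E.X 0) ∧
      Module.Finite R (E.X (-1)) ∧ Nonempty (DRing.toD E ≅ K) := by
  obtain ⟨L, hL, ⟨eL⟩⟩ := exists_rep K hK
  obtain ⟨e0⟩ := exists_h0Equiv (above_of_outside hL)
  haveI : Module.Finite R (L.X 0 ⧸ LinearMap.range (L.d (-1) 0).hom) :=
    Module.Finite.equiv ((e0.trans (hdCongr eL 0)).symm)
  obtain ⟨n, s, hs⟩ := Module.Finite.exists_fin (R := R) (M := L.X 0 ⧸ LinearMap.range (L.d (-1) 0).hom)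
  have hlift : ∀ j, ∃ t, Submodule.mkQ (LinearMap.range (L.d (-1) 0).hom) t = s j :=
    fun j => Submodule.mkQ_surjective _ _
  choose t ht using hlift
  obtain ⟨E, hE, ⟨e₁⟩, -, ⟨e⟩⟩ := exists_iso_of_top hL (Fin n →₀ R) (Finsupp.linearCombination R t) (by
    rw [sup_comm, ← Submodule.map_mkQ_eq_top, ← LinearMap.range_comp, eq_top_iff, ← hs, Submodule.span_le]
    rintro _ ⟨j, rfl⟩
    exact ⟨Finsupp.single j 1, by simp [← ht j]⟩)
  haveI : Module.Finite R (E.X 0) := Module.Finite.equiv e₁.symm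
  refine ⟨E, hE, Module.Free.of_equiv e₁.symm, inferInstance, ?_, ⟨e ≪≫ eL⟩⟩
  obtain ⟨e1⟩ := exists_h1Equiv (below_of_outside hE)
  haveI : Module.Finite R (LinearMap.ker (E.d (-1) 0).hom) :=
    Module.Finite.equiv (e1.trans (hdCongr (e ≪≫ eL) (-1))).symm
  refine ⟨Submodule.fg_of_fg_map_of_fg_inf_ker (E.d (-1) 0).hom (IsNoetherian.noetherian _) ?_⟩
  rw [top_inf_eq]
  exact Module.Finite.iff_fg.1 inferInstance

/-- Kills, in terms of a free representative. -/
theorem exists_rep_kills (K : Dual.D R) (hK : TwoTerm K) :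
    ∃ E : DRing.Cx R, DRing.VanishesOutside E (-1) 0 ∧ Module.Projective R (E.X 0) ∧ Nonempty (DRing.toD E ≅ K) ∧
      ∀ c : R, Kills K c ↔ ∃ h : E.X 0 →ₗ[R] E.X (-1), ∀ x, h (E.d (-1) 0 x) = c • x := by
  obtain ⟨E, hE, hF, ⟨e⟩⟩ := exists_rep_free K hK
  haveI := hF
  exact ⟨E, hE, Module.Projective.of_free, ⟨e⟩, fun c => (kills_iff_of_iso e).symm.trans (kills_iff hE c)⟩

theorem kills_one_iff (K : Dual.D R) (hK : TwoTerm K) :
    Kills K 1 ↔ Subsingleton (Dual.HD R K (-1)) ∧ Module.Projective R (Dual.HD R K 0) := by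
  obtain ⟨E, hE, hP, ⟨e⟩, hiff⟩ := exists_rep_kills K hK
  haveI := hP
  obtain ⟨e0⟩ := exists_h0Equiv (above_of_outside hE)
  obtain ⟨e1⟩ := exists_h1Equiv (below_of_outside hE)
  let e0' := e0.trans (hdCongr e 0)
  let e1' := e1.trans (hdCongr e (-1))
  rw [hiff]
  simp only [one_smul]
  let d : E.X (-1) →ₗ[R] E.X 0 := (E.d (-1) 0).hom
  constructor
  · rintro ⟨h, hh⟩
    haveI : Module.Projective R (E.X 0 ⧸ LinearMap.range d) := by
      refine Module.Projective.of_split ((LinearMap.range d).liftQ (LinearMap.id - d ∘ₗ h) ?_)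
        (LinearMap.range d).mkQ ?_
      · rintro _ ⟨x, rfl⟩
        show d x - d (h (d x)) = 0
        rw [show h (d x) = x from hh x, sub_self]
      · refine LinearMap.ext fun q => ?_
        obtain ⟨x, rfl⟩ := Submodule.mkQ_surjective _ q
        show Submodule.mkQ _ (x - d (h x)) = Submodule.mkQ _ x
        rw [map_sub, show Submodule.mkQ (LinearMap.range d) (d (h x)) = 0 from
          (Submodule.Quotient.mk_eq_zero _).2 ⟨h x, rfl⟩, sub_zero]
    refine ⟨e1'.toEquiv.subsingleton_congr.1 ⟨fun x y => Subtype.ext ?_⟩, Module.Projective.of_equiv e0'⟩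
    rw [← hh x.1, ← hh y.1, show E.d (-1) 0 x.1 = 0 from x.2, show E.d (-1) 0 y.1 = 0 from y.2]
  · rintro ⟨hs, hp⟩
    haveI : Module.Projective R (E.X 0 ⧸ LinearMap.range d) := Module.Projective.of_equiv e0'.symm
    obtain ⟨σ, hσ⟩ := Module.projective_lifting_property (LinearMap.range d).mkQ LinearMap.id (Submodule.mkQ_surjective _)
    let π : E.X 0 →ₗ[R] LinearMap.range d := (LinearMap.id - σ ∘ₗ (LinearMap.range d).mkQ).codRestrict _ fun x => by
      rw [← Submodule.Quotient.mk_eq_zero]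
      show Submodule.mkQ _ (x - σ (Submodule.mkQ _ x)) = 0
      rw [map_sub, ← LinearMap.comp_apply (Submodule.mkQ _) σ, hσ, LinearMap.id_apply, sub_self]
    haveI : Subsingleton (LinearMap.ker d) := e1'.toEquiv.subsingleton_congr.2 hs
    have hd : Function.Injective d := LinearMap.ker_eq_bot.1 Submodule.eq_bot_of_subsingleton
    refine ⟨(LinearEquiv.ofInjective d hd).symm.toLinearMap ∘ₗ π, fun x => ?_⟩
    rw [LinearMap.comp_apply, LinearEquiv.coe_coe, LinearEquiv.symm_apply_eq]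
    refine Subtype.ext ?_
    show d x - σ (Submodule.mkQ _ (d x)) = d x
    rw [show Submodule.mkQ (LinearMap.range d) (d x) = 0 from (Submodule.Quotient.mk_eq_zero _).2 ⟨x, rfl⟩, map_zero,
      sub_zero]

theorem smul_id_eq_zero_iff {E : DRing.Cx R} (hE : DRing.VanishesOutside E (-1) 0) [Module.Projective R (E.X 0)]
    (c : R) : c • 𝟙 (DRing.toD E) = 0 ↔ ∃ h : E.X 0 →ₗ[R] E.X (-1),
      (∀ x, h (E.d (-1) 0 x) = c • x) ∧ ∀ x, E.d (-1) 0 (h x) = c • x := by
  rw [show 𝟙 (DRing.toD E) = DerivedCategory.Q.map (𝟙 E) from (DerivedCategory.Q.map_id E).symm, ← Functor.map_smul,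
    Q_map_eq_zero_iff (above_of_outside hE) (below_of_outside hE)]
  exact exists_congr fun h => and_congr (forall_congr' fun x => ⟨Eq.symm, Eq.symm⟩)
    (forall_congr' fun x => ⟨Eq.symm, Eq.symm⟩)

theorem smul_id_eq_zero_of_iso {K K' : Dual.D R} (e : K ≅ K') {c : R} (h : c • 𝟙 K = 0) : c • 𝟙 K' = 0 := by
  rw [show c • 𝟙 K' = e.inv ≫ (c • 𝟙 K) ≫ e.hom by simp, h, zero_comp, comp_zero]

/-- A map between representatives. -/
theorem exists_rep_map {K K' : Dual.D R} (α : K ⟶ K') (hK : TwoTerm K) (hK' : TwoTerm K')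
    (h0 : IsIso ((DerivedCategory.homologyFunctor (ModuleCat.{u} R) 0).map α))
    (h1 : Epi ((DerivedCategory.homologyFunctor (ModuleCat.{u} R) (-1)).map α)) :
    ∃ (E E' : DRing.Cx R) (a : E ⟶ E') (_ : DRing.toD E ≅ K) (_ : DRing.toD E' ≅ K'),
      DRing.VanishesOutside E (-1) 0 ∧ DRing.VanishesOutside E' (-1) 0 ∧
      Module.Projective R (E.X 0) ∧ Module.Projective R (E'.X 0) ∧
      IsIso ((DerivedCategory.homologyFunctor (ModuleCat.{u} R) 0).map (DerivedCategory.Q.map a)) ∧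
      Epi ((DerivedCategory.homologyFunctor (ModuleCat.{u} R) (-1)).map (DerivedCategory.Q.map a)) := by
  obtain ⟨E, hE, hF, ⟨e⟩⟩ := exists_rep_free K hK
  obtain ⟨E', hE', hF', ⟨e'⟩⟩ := exists_rep_free K' hK'
  haveI := hF
  haveI := hF'
  haveI : Module.Projective R (E.X 0) := Module.Projective.of_free
  obtain ⟨a, ha⟩ := exists_Q_map_eq (above_of_outside hE) (below_of_outside hE') (e.hom ≫ α ≫ e'.inv)
  refine ⟨E, E', a, e, e', hE, hE', inferInstance, Module.Projective.of_free, ?_, ?_⟩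
  · rw [ha, Functor.map_comp, Functor.map_comp]; infer_instance
  · rw [ha, Functor.map_comp, Functor.map_comp]; infer_instance

theorem smul_id_transport {K K' : Dual.D R} (α : K ⟶ K') (hK : TwoTerm K) (hK' : TwoTerm K')
    (h0 : IsIso ((DerivedCategory.homologyFunctor (ModuleCat.{u} R) 0).map α))
    (h1 : Epi ((DerivedCategory.homologyFunctor (ModuleCat.{u} R) (-1)).map α))
    (c : R) (hc : c • 𝟙 K = 0) : c • 𝟙 K' = 0 := by
  obtain ⟨E, E', a, e, e', hE, hE', _, _, _, _⟩ := exists_rep_map α hK hK' h0 h1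
  obtain ⟨h, hh, hd⟩ := (smul_id_eq_zero_iff hE c).1 (smul_id_eq_zero_of_iso e.symm hc)
  obtain ⟨h', hh', hd'⟩ := exists_transport hE hE' a c h hh
  exact smul_id_eq_zero_of_iso e' ((smul_id_eq_zero_iff hE' c).2 ⟨h', hh', hd' hd⟩)

theorem kills_transport {K K' : Dual.D R} (α : K ⟶ K') (hK : TwoTerm K) (hK' : TwoTerm K')
    (h0 : IsIso ((DerivedCategory.homologyFunctor (ModuleCat.{u} R) 0).map α))
    (h1 : Epi ((DerivedCategory.homologyFunctor (ModuleCat.{u} R) (-1)).map α))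
    (c : R) (hc : Kills K c) : Kills K' c := by
  obtain ⟨E, E', a, e, e', hE, hE', _, _, _, _⟩ := exists_rep_map α hK hK' h0 h1
  obtain ⟨h, hh⟩ := (kills_iff hE c).1 (kills_of_iso e.symm hc)
  obtain ⟨h', hh', -⟩ := exists_transport hE hE' a c h hh
  exact kills_of_iso e' ((kills_iff hE' c).2 ⟨h', hh'⟩)

theorem comp_eq_zero {K₁ K₂ K₃ : Dual.D R} (φ : K₁ ⟶ K₂) (ψ : K₂ ⟶ K₃)
    (h₁ : TwoTerm K₁) (h₂ : TwoTerm K₂) (h₃ : TwoTerm K₃)
    (hφ : (DerivedCategory.homologyFunctor (ModuleCat.{u} R) 0).map φ = 0)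
    (hψ : (DerivedCategory.homologyFunctor (ModuleCat.{u} R) (-1)).map ψ = 0) :
    φ ≫ ψ = 0 := by
  obtain ⟨E₁, hE₁, hF₁, ⟨e₁⟩⟩ := exists_rep_free K₁ h₁
  obtain ⟨E₂, hE₂, hF₂, ⟨e₂⟩⟩ := exists_rep_free K₂ h₂
  obtain ⟨E₃, hE₃, hF₃, ⟨e₃⟩⟩ := exists_rep_free K₃ h₃
  haveI := hF₁
  haveI := hF₂
  haveI : Module.Projective R (E₁.X 0) := Module.Projective.of_free
  haveI : Module.Projective R (E₂.X 0) := Module.Projective.of_free
  obtain ⟨a, ha⟩ := exists_Q_map_eq (above_of_outside hE₁) (below_of_outside hE₂) (e₁.hom ≫ φ ≫ e₂.inv)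
  obtain ⟨b, hb⟩ := exists_Q_map_eq (above_of_outside hE₂) (below_of_outside hE₃) (e₂.hom ≫ ψ ≫ e₃.inv)
  have ha0 : (DerivedCategory.homologyFunctor (ModuleCat.{u} R) 0).map (DerivedCategory.Q.map a) = 0 := by
    rw [ha, Functor.map_comp, Functor.map_comp, hφ]; simp
  have hb1 : (DerivedCategory.homologyFunctor (ModuleCat.{u} R) (-1)).map (DerivedCategory.Q.map b) = 0 := by
    rw [hb, Functor.map_comp, Functor.map_comp, hψ]; simp
  obtain ⟨k, hk⟩ := Module.projective_lifting_property (E₂.d (-1) 0).hom.rangeRestrict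
    ((a.f 0).hom.codRestrict (LinearMap.range (E₂.d (-1) 0).hom) fun x => by
      obtain ⟨w, hw⟩ := boundary_of_eq_zero a (-1) 0 1 rfl rfl ha0 x (eq_zero_of_isZero (above_of_outside hE₁ 1 one_pos) _)
      exact ⟨w, hw.symm⟩) (LinearMap.surjective_rangeRestrict _)
  have hk' : ∀ x, E₂.d (-1) 0 (k x) = a.f 0 x := fun x => congrArg Subtype.val (LinearMap.congr_fun hk x)
  have hab : DerivedCategory.Q.map (a ≫ b) = 0 := by
    refine Q_map_eq_zero_of_null (above_of_outside hE₁) (below_of_outside hE₃) _ ⟨(b.f (-1)).hom ∘ₗ k, fun x => ?_, fun x => ?_⟩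
    · show b.f (-1) (a.f (-1) x) = b.f (-1) (k (E₁.d (-1) 0 x))
      rw [← sub_eq_zero, ← map_sub]
      obtain ⟨w, hw⟩ := boundary_of_eq_zero b (-2) (-1) 0 rfl rfl hb1 (a.f (-1) x - k (E₁.d (-1) 0 x))
        (by rw [map_sub, hk', comm_apply, sub_self])
      rw [hw, eq_zero_d_neg_two hE₃]
    · show b.f 0 (a.f 0 x) = E₃.d (-1) 0 (b.f (-1) (k x))
      rw [comm_apply, hk']
  rw [Functor.map_comp, ha, hb] at hab
  have h2 : φ ≫ ψ ≫ e₃.inv = 0 := by simpa using hab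
  rw [← cancel_mono e₃.inv, Category.assoc, h2, zero_comp]

/-- The representative `range d ⊆ E⁰` of the cokernel, with its criterion. -/
theorem exists_image_rep {E : DRing.Cx R} (hE : DRing.VanishesOutside E (-1) 0) [Module.Projective R (E.X 0)]
    {H : Type u} [AddCommGroup H] [Module R H] (e : (E.X 0 ⧸ LinearMap.range (E.d (-1) 0).hom) ≃ₗ[R] H) :
    ∃ L : Dual.D R, (∀ c : R, Kills L c ↔
      ∃ h : E.X 0 →ₗ[R] LinearMap.range (E.d (-1) 0).hom, ∀ y, h y.1 = c • y) ∧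
        Nonempty (L ≅ Dual.inD R H) := by
  let S := LinearMap.range (E.d (-1) 0).hom
  let f : ModuleCat.of R S ⟶ E.X 0 := ModuleCat.ofHom S.subtype
  let ι₀ := (ttIso₀ f).toLinearEquiv
  let ι₁ := (ttIso₁ f).toLinearEquiv
  have hd : ∀ x, ι₁ ((tt f).d (-1) 0 x) = (ι₀ x).1 := fun x => tt_d f x
  haveI : Module.Projective R ((tt f).X 0) := Module.Projective.of_equiv ι₁.symm
  refine ⟨DRing.toD (tt f), fun c => (kills_iff (tt_outside f) c).trans ⟨fun ⟨h, hh⟩ => ?_, fun ⟨h, hh⟩ => ?_⟩, ?_⟩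
  · refine ⟨ι₀.toLinearMap ∘ₗ h ∘ₗ ι₁.symm.toLinearMap, fun y => ?_⟩
    obtain ⟨x, rfl⟩ := ι₀.surjective y
    show ι₀ (h (ι₁.symm (ι₀ x).1)) = c • ι₀ x
    rw [← hd, LinearEquiv.symm_apply_apply, hh, map_smul]
  · refine ⟨ι₀.symm.toLinearMap ∘ₗ h ∘ₗ ι₁.toLinearMap, fun x => ?_⟩
    show ι₀.symm (h (ι₁ ((tt f).d (-1) 0 x))) = _
    rw [hd]
    exact (congrArg ι₀.symm (hh (ι₀ x))).trans (by rw [map_smul, LinearEquiv.symm_apply_apply])
  · obtain ⟨e0⟩ := exists_h0Equiv (above_of_outside (tt_outside f))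
    obtain ⟨e1⟩ := exists_h1Equiv (below_of_outside (tt_outside f))
    obtain ⟨i⟩ := exists_iso_inD (DRing.toD (tt f)) fun n hn => by
      by_cases h1 : n = -1
      · subst h1
        refine e1.toEquiv.subsingleton_congr.1 ⟨fun x y => Subtype.ext (ι₀.injective (Subtype.ext ?_))⟩
        rw [← hd, ← hd, show (tt f).d (-1) 0 x.1 = 0 from x.2, show (tt f).d (-1) 0 y.1 = 0 from y.2]
      · refine (hdEquiv (tt f) (n - 1) n (n + 1) (by omega) rfl).toEquiv.subsingleton_congr.2 ?_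
        exact ModuleCat.subsingleton_of_isZero ((ShortComplex.exact_iff_isZero_homology _).1 (ShortComplex.exact_of_isZero_X₂ _
          (tt_outside f n (by omega))))
    have hmap : (LinearMap.range ((tt f).d (-1) 0).hom).map ι₁.toLinearMap = S := by
      ext y
      constructor
      · rintro ⟨_, ⟨x, rfl⟩, rfl⟩
        show ι₁ ((tt f).d (-1) 0 x) ∈ S
        rw [hd]
        exact (ι₀ x).2
      · intro hy
        obtain ⟨x, hx⟩ := ι₀.surjective ⟨y, hy⟩
        exact ⟨_, ⟨x, rfl⟩, (hd x).trans (congrArg Subtype.val hx)⟩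
    exact ⟨i ≪≫ (DerivedCategory.singleFunctor (ModuleCat.{u} R) 0).mapIso
      ((e0.symm.trans ((Submodule.Quotient.equiv _ _ ι₁ hmap).trans e)).toModuleIso)⟩

/-- The two criteria of `I^c`-torsion `H⁻¹` and `I^c`-projective `H⁰`. -/
theorem kills_h0 (K : Dual.D R) (hK : TwoTerm K) {c : R} (hc : Kills K c) :
    (∀ x : Dual.HD R K (-1), c • x = 0) ∧ Kills (Dual.inD R (Dual.HD R K 0)) c := by
  obtain ⟨E, hE, hP, ⟨e⟩, hiff⟩ := exists_rep_kills K hK
  haveI := hP
  obtain ⟨h, hh⟩ := (hiff c).1 hc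
  obtain ⟨e0⟩ := exists_h0Equiv (above_of_outside hE)
  obtain ⟨e1⟩ := exists_h1Equiv (below_of_outside hE)
  let d : E.X (-1) →ₗ[R] E.X 0 := (E.d (-1) 0).hom
  refine ⟨fun x => ?_, ?_⟩
  · obtain ⟨z, rfl⟩ := (e1.trans (hdCongr e (-1))).surjective x
    rw [← map_smul, show c • z = 0 from Subtype.ext (by
      show c • (z : E.X (-1)) = 0
      rw [← hh, show E.d (-1) 0 (z : E.X (-1)) = 0 from z.2, map_zero]), map_zero]
  · obtain ⟨L, hL, ⟨i⟩⟩ := exists_image_rep hE (e0.trans (hdCongr e 0))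
    refine kills_of_iso i ((hL c).2 ⟨d.rangeRestrict ∘ₗ h, fun y => ?_⟩)
    obtain ⟨x, rfl⟩ := d.surjective_rangeRestrict y
    show d.rangeRestrict (h (d x)) = _
    rw [show h (d x) = c • x from hh x, map_smul]

theorem kills_mul (K : Dual.D R) (hK : TwoTerm K) {a b : R} (ha : ∀ x : Dual.HD R K (-1), a • x = 0)
    (hb : Kills (Dual.inD R (Dual.HD R K 0)) b) : Kills K (a * b) := by
  obtain ⟨E, hE, hP, ⟨e⟩, hiff⟩ := exists_rep_kills K hK
  haveI := hP
  obtain ⟨e0⟩ := exists_h0Equiv (above_of_outside hE)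
  obtain ⟨e1⟩ := exists_h1Equiv (below_of_outside hE)
  obtain ⟨L, hL, ⟨i⟩⟩ := exists_image_rep hE (e0.trans (hdCongr e 0))
  obtain ⟨h, hh⟩ := (hL b).1 (kills_of_iso i.symm hb)
  let d : E.X (-1) →ₗ[R] E.X 0 := (E.d (-1) 0).hom
  obtain ⟨ρ, hρ⟩ := exists_factor d.rangeRestrict d.surjective_rangeRestrict (a • LinearMap.id) fun x hx => by
    have hx' : d x = 0 := congrArg Subtype.val hx
    let e' := e1.trans (hdCongr e (-1))
    have : a • (⟨x, hx'⟩ : LinearMap.ker d) = 0 := e'.injective (by rw [map_smul, ha, map_zero])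
    exact congrArg Subtype.val this
  refine (hiff _).2 ⟨ρ ∘ₗ h, fun x => ?_⟩
  show ρ (h (d.rangeRestrict x)) = _
  rw [hh, map_smul, hρ, LinearMap.smul_apply, LinearMap.id_apply, smul_smul, mul_comm]

end Groth.Agent.DRingTwoTerm
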