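import Groth.Prelude.Def_DDual2
import Groth.Agent.DRingKProj.Semifree
import Mathlib.Algebra.Homology.DerivedCategory.KProjective

/-!
# Maps out of a complex in degrees `≤ 0` with projective top term into a complex in degrees `≥ -1`

Maps in the derived category are then homotopy classes of maps of complexes, and a null homotopy is a single map
`M⁰ ⟶ K⁻¹`.
-/

universe u

open CategoryTheory Limits

namespace Groth.Agent.DRingTwoTerm

set_option linter.style.haveILetI false

attribute [local instance] HasDerivedCategory.standard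

variable {R : Type u} [CommRing R]

theorem eq_zero_of_isZero {N : ModuleCat.{u} R} (h : IsZero N) (x : N) : x = 0 :=
  haveI := ModuleCat.subsingleton_of_isZero h
  Subsingleton.elim _ _

theorem d_apply {M : DRing.Cx R} (i j k : ℤ) (x : M.X i) : M.d j k (M.d i j x) = 0 := by
  rw [← ModuleCat.comp_apply, M.d_comp_d]; rfl

theorem comm_apply {M K : DRing.Cx R} (a : M ⟶ K) (i j : ℤ) (x : M.X i) :
    K.d i j (a.f i x) = a.f j (M.d i j x) := by
  rw [← ModuleCat.comp_apply, a.comm]; rfl

theorem qi_injective {P M : DRing.Cx R} (π : P ⟶ M) [QuasiIso π] (i j k : ℤ) (hi : i + 1 = j) (hk : j + 1 = k)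
    (x : P.X j) (hx : P.d j k x = 0) (h : ∃ w, π.f j x = M.d i j w) : ∃ w, x = P.d i j w := by
  have hq := ‹QuasiIso π›.quasiIsoAt j
  rw [quasiIsoAt_iff' π i j k (by simp; omega) (by simp; omega), ShortComplex.quasiIso_iff,
    ConcreteCategory.isIso_iff_bijective] at hq
  exact (FlatComplex.homologyMap_injective_iff _).1 hq.1 x hx h

theorem qi_surjective {P M : DRing.Cx R} (π : P ⟶ M) [QuasiIso π] (i j k : ℤ) (hi : i + 1 = j) (hk : j + 1 = k)
    (z : M.X j) (hz : M.d j k z = 0) : ∃ x, P.d j k x = 0 ∧ ∃ w, π.f j x - z = M.d i j w := by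
  have hq := ‹QuasiIso π›.quasiIsoAt j
  rw [quasiIsoAt_iff' π i j k (by simp; omega) (by simp; omega), ShortComplex.quasiIso_iff,
    ConcreteCategory.isIso_iff_bijective] at hq
  exact (FlatComplex.homologyMap_surjective_iff _).1 hq.2 z hz

/-- A surjective K-projective resolution in degrees `≤ 0`. -/
theorem exists_surjective_resolution (M : DRing.Cx R) (hM : ∀ i : ℤ, 0 < i → IsZero (M.X i)) :
    ∃ (P : DRing.Cx R) (π : P ⟶ M), P.IsKProjective ∧ QuasiIso π ∧ (∀ i : ℤ, 0 < i → IsZero (P.X i)) ∧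
      (∀ i, Function.Surjective (π.f i)) ∧ ∀ i, Module.Projective R (P.X i) := by
  let S : ℤ → Prop := fun n => n ≤ 0
  refine ⟨DRingKProj.P M S, DRingKProj.φ M S, inferInstance, DRingKProj.quasiIso_φ (fun n h => by simp [S] at h ⊢; omega)
    (fun n hn => ?_), fun i hi => DRingKProj.isZero_X_of_not (by simp [S]; omega), fun i x => ?_, fun i => ?_⟩
  · simp [S] at hn
    rw [M.exactAt_iff' (n - 1) n (n + 1) (by simp) (by simp)]
    exact ShortComplex.exact_of_isZero_X₂ _ (hM n hn)
  · by_cases hi : 0 < i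
    · exact ⟨0, by rw [map_zero]; exact (eq_zero_of_isZero (hM i hi) x).symm⟩
    by_cases h0 : i = 0
    · have hd : M.d i (i + 1) x = 0 := eq_zero_of_isZero (hM (i + 1) (by omega)) _
      exact ⟨Finsupp.single ⟨.cyc x, .cyc x (by simp [S]; omega) hd⟩ 1, by
        show DRingKProj.valMap M S i _ = x
        rw [DRingKProj.valMap_single, one_smul]; rfl⟩
    · refine ⟨Finsupp.single ⟨.kill 1 (fun _ => 1) (fun _ => .cyc (M.d i (i + 1) x)) x,
        .kill 1 (fun _ => 1) (fun _ => .cyc (M.d i (i + 1) x)) x (by simp [S]; omega)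
          (fun _ => .cyc _ (by simp [S]; omega) (d_apply _ _ _ x)) (by simp [DRingKProj.dRaw])
          (by simp [DRingKProj.val])⟩ 1, ?_⟩
      show DRingKProj.valMap M S i _ = x
      rw [DRingKProj.valMap_single, one_smul]; rfl
  · haveI := DRingKProj.free_X (K := M) (S := S) i
    exact Module.Projective.of_free

variable {M K : DRing.Cx R}

/-- A null homotopy given by one map. -/
def Null (a : M ⟶ K) : Prop :=
  ∃ h : M.X 0 →ₗ[R] K.X (-1), (∀ x, a.f (-1) x = h (M.d (-1) 0 x)) ∧ ∀ x, a.f 0 x = K.d (-1) 0 (h x)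

variable (hM : ∀ i : ℤ, 0 < i → IsZero (M.X i)) (hK : ∀ i : ℤ, i ≤ -2 → IsZero (K.X i))

include hM hK in
theorem null_iff (a : M ⟶ K) :
    (HomotopyCategory.quotient (ModuleCat.{u} R) (ComplexShape.up ℤ)).map a = 0 ↔ Null a := by
  constructor
  · intro h
    rw [← Functor.map_zero] at h
    let H := HomotopyCategory.homotopyOfEq _ _ h
    refine ⟨(H.hom 0 (-1)).hom, fun x => ?_, fun x => ?_⟩
    · have e := H.comm (-1)
      rw [dNext_eq _ (show (ComplexShape.up ℤ).Rel (-1) 0 by simp),
        prevD_eq _ (show (ComplexShape.up ℤ).Rel (-2) (-1) by simp)] at e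
      have e' := congrArg (fun t => t.hom x) e
      simp at e'
      rw [e', eq_zero_of_isZero (hK (-2) le_rfl) (H.hom (-1) (-2) x)]
      simp
    · have e := H.comm 0
      rw [dNext_eq _ (show (ComplexShape.up ℤ).Rel 0 1 by simp),
        prevD_eq _ (show (ComplexShape.up ℤ).Rel (-1) 0 by simp)] at e
      have e' := congrArg (fun t => t.hom x) e
      simp at e'
      rw [e', eq_zero_of_isZero (hM 1 one_pos) (M.d 0 1 x)]
      simp
  · rintro ⟨h, h1, h0⟩
    let H : Homotopy a 0 :=
      { hom := fun i j => if hh : i = 0 ∧ j = -1 then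
          eqToHom (by rw [hh.1]) ≫ ModuleCat.ofHom h ≫ eqToHom (by rw [hh.2]) else 0
        zero := fun i j hij => dif_neg fun hh => hij (by simp [hh.1, hh.2])
        comm := fun i => by
          by_cases hi : 0 < i
          · exact (hM i hi).eq_of_src _ _
          by_cases hi' : i ≤ -2
          · exact (hK i hi').eq_of_tgt _ _
          rcases (show i = 0 ∨ i = -1 by omega) with rfl | rfl
          · rw [dNext_eq _ (show (ComplexShape.up ℤ).Rel 0 1 by simp),
              prevD_eq _ (show (ComplexShape.up ℤ).Rel (-1) 0 by simp)]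
            simp
            exact ModuleCat.hom_ext (LinearMap.ext fun x => h0 x)
          · rw [dNext_eq _ (show (ComplexShape.up ℤ).Rel (-1) 0 by simp),
              prevD_eq _ (show (ComplexShape.up ℤ).Rel (-2) (-1) by simp)]
            simp
            exact ModuleCat.hom_ext (LinearMap.ext fun x => h1 x) }
    rw [HomotopyCategory.eq_of_homotopy _ _ H, Functor.map_zero]

variable [Module.Projective R (M.X 0)]

/-- Kernel of a surjective resolution: exact in degree `0` and split off there. -/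
theorem exists_split {P : DRing.Cx R} (π : P ⟶ M) [QuasiIso π] (hP : ∀ i : ℤ, 0 < i → IsZero (P.X i))
    (hπ : ∀ i, Function.Surjective (π.f i)) :
    (∀ c, π.f 0 c = 0 → ∃ p, π.f (-1) p = 0 ∧ P.d (-1) 0 p = c) ∧
      ∃ s : M.X 0 →ₗ[R] P.X 0, ∀ x, π.f 0 (s x) = x := by
  refine ⟨fun c hc => ?_, ?_⟩
  · obtain ⟨w, hw⟩ := qi_injective π (-1) 0 1 rfl rfl c (eq_zero_of_isZero (hP 1 one_pos) _)
      ⟨0, by rw [map_zero, hc]⟩
    have hz : M.d (-1) 0 (π.f (-1) w) = 0 := by rw [comm_apply, ← hw, hc]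
    obtain ⟨z, hz0, m, hm⟩ := qi_surjective π (-2) (-1) 0 rfl rfl _ hz
    obtain ⟨q, rfl⟩ := hπ (-2) m
    refine ⟨w - z + P.d (-2) (-1) q, ?_, ?_⟩
    · rw [map_add, map_sub, ← comm_apply, ← hm]; abel
    · rw [map_add, map_sub, ← hw, hz0, d_apply, sub_zero, add_zero]
  · obtain ⟨s, hs⟩ := Module.projective_lifting_property (π.f 0).hom LinearMap.id (hπ 0)
    exact ⟨s, fun x => LinearMap.congr_fun hs x⟩

include hM hK in
theorem null_of_Q_map_eq_zero (a : M ⟶ K) (ha : DerivedCategory.Q.map a = 0) : Null a := by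
  obtain ⟨P, π, hPK, hπq, hP, hπ, hproj⟩ := exists_surjective_resolution M hM
  haveI := hPK
  haveI := hπq
  obtain ⟨hker, s, hs⟩ := exists_split π hP hπ
  have h0 : (HomotopyCategory.quotient (ModuleCat.{u} R) (ComplexShape.up ℤ)).map (π ≫ a) = 0 := by
    refine (CochainComplex.IsKProjective.Qh_map_bijective P _).injective ?_
    rw [Functor.map_zero, ← cancel_mono ((DerivedCategory.quotientCompQhIso _).hom.app K),
      DerivedCategory.quotientCompQhIso_hom_naturality, Functor.map_comp, ha, comp_zero, comp_zero, zero_comp]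
  obtain ⟨h, h1, h00⟩ := (null_iff hP hK _).1 h0
  simp only [HomologicalComplex.comp_f, ModuleCat.comp_apply] at h1 h00
  have hkill : ∀ c, π.f 0 c = 0 → h c = 0 := fun c hc => by
    obtain ⟨p, hp, rfl⟩ := hker c hc
    rw [← h1, hp, map_zero]
  have hfac : ∀ c, h c = h (s (π.f 0 c)) := fun c => by
    rw [← sub_eq_zero, ← map_sub]
    exact hkill _ (by rw [map_sub, hs, sub_self])
  refine ⟨h.comp s, fun x => ?_, fun x => ?_⟩
  · obtain ⟨p, rfl⟩ := hπ (-1) x
    rw [h1, hfac, LinearMap.comp_apply, comm_apply]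
  · rw [LinearMap.comp_apply, ← h00, hs]

include hM hK in
theorem exists_Q_map_eq (φ : DerivedCategory.Q.obj M ⟶ DerivedCategory.Q.obj K) :
    ∃ a : M ⟶ K, DerivedCategory.Q.map a = φ := by
  obtain ⟨P, π, hPK, hπq, hP, hπ, hproj⟩ := exists_surjective_resolution M hM
  haveI := hPK
  haveI := hπq
  obtain ⟨hker, s, hs⟩ := exists_split π hP hπ
  obtain ⟨g, hg⟩ := (CochainComplex.IsKProjective.Qh_map_bijective P _).surjective
    ((DerivedCategory.quotientCompQhIso _).hom.app P ≫ DerivedCategory.Q.map π ≫ φ ≫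
      (DerivedCategory.quotientCompQhIso _).inv.app K)
  obtain ⟨b, rfl⟩ := (HomotopyCategory.quotient _ _).map_surjective g
  have hb : DerivedCategory.Q.map b = DerivedCategory.Q.map π ≫ φ := by
    rw [← cancel_epi ((DerivedCategory.quotientCompQhIso _).hom.app P),
      ← DerivedCategory.quotientCompQhIso_hom_naturality, hg]
    simp
  -- a null homotopy of `b` on the kernel of `π`, extended to `P⁰`
  let C := LinearMap.ker (π.f 0).hom
  let d' : LinearMap.ker (π.f (-1)).hom →ₗ[R] C :=
    (P.d (-1) 0).hom.restrict fun p hp => by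
      show π.f 0 (P.d (-1) 0 p) = 0
      rw [← comm_apply, show π.f (-1) p = 0 from hp, map_zero]
  haveI : Module.Projective R C := by
    haveI : Module.Projective R (P.X 0) := hproj 0
    exact Module.Projective.of_split C.subtype
      (((LinearMap.id : P.X 0 →ₗ[R] P.X 0) - s.comp (π.f 0).hom).codRestrict C fun x => by
        show π.f 0 (x - s (π.f 0 x)) = 0
        rw [map_sub, hs, sub_self])
      (LinearMap.ext fun c => Subtype.ext (by
        show (c : P.X 0) - s (π.f 0 (c : P.X 0)) = c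
        rw [show π.f 0 (c : P.X 0) = 0 from c.2, map_zero, sub_zero]))
  have hd' : Function.Surjective d' := fun c => by
    obtain ⟨p, hp, hpc⟩ := hker c c.2
    exact ⟨⟨p, hp⟩, Subtype.ext hpc⟩
  obtain ⟨t, ht⟩ := Module.projective_lifting_property d' LinearMap.id hd'
  have ht' : ∀ c : C, P.d (-1) 0 (t c : P.X (-1)) = (c : P.X 0) := fun c => congrArg Subtype.val (LinearMap.congr_fun ht c)
  let h : P.X 0 →ₗ[R] K.X (-1) := (b.f (-1)).hom ∘ₗ (LinearMap.ker (π.f (-1)).hom).subtype ∘ₗ t ∘ₗ
    (((LinearMap.id : P.X 0 →ₗ[R] P.X 0) - s.comp (π.f 0).hom).codRestrict C fun x => by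
      show π.f 0 (x - s (π.f 0 x)) = 0
      rw [map_sub, hs, sub_self])
  have hh : ∀ c : C, h c = b.f (-1) (t c : P.X (-1)) := fun c => by
    show b.f (-1) (t _ : P.X (-1)) = _
    congr 3
    refine Subtype.ext ?_
    show (c : P.X 0) - s (π.f 0 (c : P.X 0)) = c
    rw [show π.f 0 (c : P.X 0) = 0 from c.2, map_zero, sub_zero]
  -- kernels in degree `-1`
  have hneg : ∀ p, π.f (-1) p = 0 → b.f (-1) p - h (P.d (-1) 0 p) = 0 := fun p hp => by
    have hpC : P.d (-1) 0 p ∈ C := by
      show π.f 0 (P.d (-1) 0 p) = 0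
      rw [← comm_apply, hp, map_zero]
    rw [hh ⟨_, hpC⟩, ← map_sub]
    set q := p - (t ⟨_, hpC⟩ : P.X (-1))
    have hq0 : P.d (-1) 0 q = 0 := by
      show P.d (-1) 0 (p - (t ⟨_, hpC⟩ : P.X (-1))) = 0
      rw [map_sub, ht' ⟨_, hpC⟩, sub_self]
    obtain ⟨w, hw⟩ := qi_injective π (-2) (-1) 0 rfl rfl q hq0 ⟨0, by
      show π.f (-1) (p - (t ⟨_, hpC⟩ : P.X (-1))) = _
      rw [map_zero, map_sub, hp, show π.f (-1) (t ⟨_, hpC⟩ : P.X (-1)) = 0 from (t ⟨_, hpC⟩).2, sub_zero]⟩
    rw [hw, ← comm_apply, eq_zero_of_isZero (hK (-2) le_rfl) (b.f (-2) w), map_zero]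
  have hzero : ∀ c, π.f 0 c = 0 → b.f 0 c - K.d (-1) 0 (h c) = 0 := fun c hc => by
    rw [hh ⟨c, hc⟩, comm_apply, ht' ⟨c, hc⟩, sub_self]
  -- descend
  let sec : ∀ i, M.X i → P.X i := fun i => Function.surjInv (hπ i)
  have hsec : ∀ i x, π.f i (sec i x) = x := fun i => Function.surjInv_eq (hπ i)
  let g1 : P.X (-1) →ₗ[R] K.X (-1) := (b.f (-1)).hom - h ∘ₗ (P.d (-1) 0).hom
  let g0 : P.X 0 →ₗ[R] K.X 0 := (b.f 0).hom - (K.d (-1) 0).hom ∘ₗ h
  let desc : ∀ {i : ℤ} {N : ModuleCat.{u} R} (g : P.X i →ₗ[R] N), (∀ p, π.f i p = 0 → g p = 0) → (M.X i →ₗ[R] N) :=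
    fun {i N} g hg =>
      { toFun := fun x => g (sec i x)
        map_add' := fun x y => by
          rw [← map_add, ← sub_eq_zero, ← map_sub]
          exact hg _ (by simp only [map_sub, map_add, hsec, sub_self])
        map_smul' := fun r x => by
          rw [RingHom.id_apply, ← map_smul, ← sub_eq_zero, ← map_sub]
          exact hg _ (by simp only [map_sub, map_smul, hsec, sub_self]) }
  have hdesc : ∀ {i : ℤ} {N : ModuleCat.{u} R} (g : P.X i →ₗ[R] N) (hg : ∀ p, π.f i p = 0 → g p = 0) (p : P.X i),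
      desc g hg (π.f i p) = g p := fun g hg p => by
    rw [← sub_eq_zero]
    show g (sec _ (π.f _ p)) - g p = 0
    rw [← map_sub]
    exact hg _ (by rw [map_sub, hsec, sub_self])
  let a : M ⟶ K :=
    { f := fun i =>
        if h1 : i = -1 then eqToHom (by rw [h1]) ≫ ModuleCat.ofHom (desc g1 hneg) ≫ eqToHom (by rw [h1])
        else if h0 : i = 0 then eqToHom (by rw [h0]) ≫ ModuleCat.ofHom (desc g0 hzero) ≫ eqToHom (by rw [h0])
        else 0
      comm' := fun i j hij => by
        obtain rfl : i + 1 = j := hij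
        by_cases hi : i ≤ -3
        · exact (hK (i + 1) (by omega)).eq_of_tgt _ _
        by_cases hi' : 0 < i
        · exact (hM i hi').eq_of_src _ _
        rcases (show i = -2 ∨ i = -1 ∨ i = 0 by omega) with rfl | rfl | rfl
        · simp
          refine ModuleCat.hom_ext (LinearMap.ext fun x => ?_)
          obtain ⟨p, rfl⟩ := hπ (-2) x
          show 0 = desc g1 hneg (M.d (-2) (-1) (π.f (-2) p))
          rw [comm_apply, hdesc g1 hneg]
          show 0 = b.f (-1) (P.d (-2) (-1) p) - h (P.d (-1) 0 (P.d (-2) (-1) p))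
          rw [d_apply, ← comm_apply, eq_zero_of_isZero (hK (-2) le_rfl) (b.f (-2) p), map_zero, map_zero, sub_zero]
        · simp
          refine ModuleCat.hom_ext (LinearMap.ext fun x => ?_)
          obtain ⟨p, rfl⟩ := hπ (-1) x
          show K.d (-1) 0 (desc g1 hneg (π.f (-1) p)) = desc g0 hzero (M.d (-1) 0 (π.f (-1) p))
          rw [comm_apply, hdesc g1 hneg, hdesc g0 hzero]
          show K.d (-1) 0 (b.f (-1) p - h (P.d (-1) 0 p)) = b.f 0 (P.d (-1) 0 p) - K.d (-1) 0 (h (P.d (-1) 0 p))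
          rw [map_sub, comm_apply]
        · simp
          refine ModuleCat.hom_ext (LinearMap.ext fun x => ?_)
          obtain ⟨p, rfl⟩ := hπ 0 x
          show K.d 0 1 (desc g0 hzero (π.f 0 p)) = 0
          rw [hdesc g0 hzero]
          show K.d 0 1 (b.f 0 p - K.d (-1) 0 (h p)) = 0
          rw [map_sub, d_apply, comm_apply, eq_zero_of_isZero (hP 1 one_pos) (P.d 0 1 p), map_zero, sub_zero] }
  have hnull : Null (b - π ≫ a) := by
    refine ⟨h, fun p => ?_, fun p => ?_⟩
    · show b.f (-1) p - a.f (-1) (π.f (-1) p) = _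
      simp [a, hdesc g1 hneg, g1]
    · show b.f 0 p - a.f 0 (π.f 0 p) = _
      simp [a, hdesc g0 hzero, g0]
  refine ⟨a, ?_⟩
  haveI : IsIso (DerivedCategory.Q.map π) := (DerivedCategory.isIso_Q_map_iff_quasiIso _ π).2 hπq
  rw [← cancel_epi (DerivedCategory.Q.map π), ← Functor.map_comp, ← hb]
  have e := (null_iff hP hK _).2 hnull
  rw [Functor.map_sub, sub_eq_zero] at e
  have e' := congrArg DerivedCategory.Qh.map e
  rw [← cancel_epi ((DerivedCategory.quotientCompQhIso _).hom.app P),
    ← DerivedCategory.quotientCompQhIso_hom_naturality, ← DerivedCategory.quotientCompQhIso_hom_naturality, e']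

include hM hK in
theorem Qh_map_bijective :
    Function.Bijective (fun φ : (HomotopyCategory.quotient (ModuleCat.{u} R) (ComplexShape.up ℤ)).obj M ⟶
      (HomotopyCategory.quotient (ModuleCat.{u} R) (ComplexShape.up ℤ)).obj K => DerivedCategory.Qh.map φ) := by
  constructor
  · intro φ ψ hφψ
    obtain ⟨f, rfl⟩ := (HomotopyCategory.quotient _ _).map_surjective φ
    obtain ⟨g, rfl⟩ := (HomotopyCategory.quotient _ _).map_surjective ψ
    rw [← sub_eq_zero, ← Functor.map_sub]
    refine (null_iff hM hK _).2 (null_of_Q_map_eq_zero hM hK _ ?_)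
    rw [Functor.map_sub, sub_eq_zero, ← cancel_epi ((DerivedCategory.quotientCompQhIso _).hom.app M),
      ← DerivedCategory.quotientCompQhIso_hom_naturality, ← DerivedCategory.quotientCompQhIso_hom_naturality,
      show DerivedCategory.Qh.map _ = _ from hφψ]
  · intro φ
    obtain ⟨a, ha⟩ := exists_Q_map_eq hM hK
      ((DerivedCategory.quotientCompQhIso _).inv.app M ≫ φ ≫ (DerivedCategory.quotientCompQhIso _).hom.app K)
    refine ⟨(HomotopyCategory.quotient _ _).map a, ?_⟩
    simp only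
    rw [← cancel_mono ((DerivedCategory.quotientCompQhIso _).hom.app K),
      DerivedCategory.quotientCompQhIso_hom_naturality, ha]
    simp

end Groth.Agent.DRingTwoTerm
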